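import Groth.Agent.Dual3Lib.PushHom
import Groth.Agent.Dual3Lib.TwistBij
import Groth.Agent.ProjFormLib.QCohMain

/-!
# The projection formula, natural on `D_QCoh(X)`, and `f^! RHom(G₁, G₂) ≅ RHom(Lf^*G₁, f^!G₂)`
-/

set_option autoImplicit false
set_option linter.style.haveILetI false
set_option backward.isDefEq.respectTransparency false
set_option backward.isDefEq.respectTransparency.types false
set_option maxHeartbeats 1000000

universe u

open CategoryTheory CategoryTheory.Limits AlgebraicGeometry HomologicalComplex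
open Groth.Agent.DerLib Groth.Agent.PerfDualLib Groth.Agent.ProjFormLib Groth.Agent.Dual3Lib

attribute [local instance] HasDerivedCategory.standard

namespace Groth.Agent.ShriekHomLib

variable {X Y : Scheme.{u}} (f : X ⟶ Y) [QuasiCompact f] [QuasiSeparated f] [DCoh.HasRpush f]

/-- A natural comparison, from a comparison on the K-injective representatives. -/
theorem nonempty_natIso_of_kInj {D : Type*} [Category D] {P : ObjectProperty (DCoh.D X)}
    (F G : DCoh.D X ⥤ D)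
    (φ : ∀ (I : Cx X) (_ : I.IsKInjective), P (DerivedCategory.Q.obj I) →
      (F.obj (DerivedCategory.Q.obj I) ≅ G.obj (DerivedCategory.Q.obj I)))
    (hP : ∀ {A B : DCoh.D X}, (A ≅ B) → P A → P B)
    (hφ : ∀ (I J : Cx X) (hI : I.IsKInjective) (hJ : J.IsKInjective) (pI : P (DerivedCategory.Q.obj I))
      (pJ : P (DerivedCategory.Q.obj J)) (m : I ⟶ J),
      F.map (DerivedCategory.Q.map m) ≫ (φ J hJ pJ).hom = (φ I hI pI).hom ≫ G.map (DerivedCategory.Q.map m)) :
    Nonempty (P.ι ⋙ F ≅ P.ι ⋙ G) := by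
  choose I hI e using fun T : DCoh.D X => KInjUse.exists_iso_Q_kInjective T
  refine ⟨NatIso.ofComponents (fun T => F.mapIso (e T.obj).some ≪≫
    φ (I T.obj) (hI T.obj) (hP (e T.obj).some T.property) ≪≫ G.mapIso (e T.obj).some.symm) ?_⟩
  intro T T' u
  haveI := hI T'.obj
  obtain ⟨m, hm⟩ := KInjUse.Q_map_surjective (I T.obj) (I T'.obj)
    ((e T.obj).some.inv ≫ u.hom ≫ (e T'.obj).some.hom)
  have h := hφ (I T.obj) (I T'.obj) (hI _) (hI _) (hP (e T.obj).some T.property)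
    (hP (e T'.obj).some T'.property) m
  have hF : F.map u.hom ≫ F.map (e T'.obj).some.hom =
      F.map (e T.obj).some.hom ≫ F.map (DerivedCategory.Q.map m) := by
    rw [← F.map_comp, ← F.map_comp, hm, Iso.hom_inv_id_assoc]
  have hG : G.map (DerivedCategory.Q.map m) ≫ G.map (e T'.obj).some.inv =
      G.map (e T.obj).some.inv ≫ G.map u.hom := by
    rw [← G.map_comp, ← G.map_comp, hm]
    simp
  simp only [Functor.comp_map, Iso.trans_hom, Functor.mapIso_hom, Iso.symm_hom,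
    ObjectProperty.ι_map, Category.assoc]
  rw [reassoc_of% hF, reassoc_of% h, hG]

/-- The projection formula, natural in the object upstairs, for a K-flat complex downstairs. -/
theorem nonempty_projection_natIso (P : Cx Y) (hP : DCoh.IsKFlat P)
    (hPq : DCoh.IsQCohD (DerivedCategory.Q.obj P)) [DCoh.HasLTensorCx P]
    [DCoh.HasLTensorCx ((pullC f).obj P)] :
    Nonempty ((DCoh.IsQCohD (X := X)).ι ⋙ (DCoh.Rpush f ⋙ DCoh.LTensorCx P) ≅
      (DCoh.IsQCohD (X := X)).ι ⋙ (DCoh.LTensorCx ((pullC f).obj P) ⋙ DCoh.Rpush f)) := by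
  let ψ : ∀ I : Cx X, (KFlatLib.resP Y).obj ((pushC f).obj I) ⟶ (pushC f).obj I :=
    fun I => (KFlatLib.resψ Y).app ((pushC f).obj I)
  haveI hψ : ∀ I : Cx X, QuasiIso (ψ I) := fun I => KFlatLib.quasiIso_resψ _
  haveI hc : ∀ A : Cx Y, IsIso ((TensorAssocLib.cnt P).app A) := TensorAssocLib.isIso_cnt P hP
  haveI hc' : ∀ I : Cx X, IsIso ((TensorAssocLib.cnt ((pullC f).obj P)).app I) :=
    TensorAssocLib.isIso_cnt _ (KFlatLib.isKFlat_pull f hP)
  let π : ∀ (I : Cx X) (_ : I.IsKInjective),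
      DerivedCategory.Q.obj ((KFlatLib.resP Y).obj ((pushC f).obj I)) ≅
        (DCoh.Rpush f).obj (DerivedCategory.Q.obj I) := fun I _ =>
    haveI := isIso_pushQ f I
    asIso (DerivedCategory.Q.map (ψ I) ≫ pushQ f I)
  refine nonempty_natIso_of_kInj _ _ (fun I hI pI =>
    haveI := isIso_beta_of_qcoh f (ψ I) (KFlatLib.good_resP _).1 pI P hP hPq
    (DCoh.LTensorCx P).mapIso (π I hI).symm ≪≫
      asIso ((TensorAssocLib.cnt P).app _) ≪≫ asIso (beta f (ψ I) P) ≪≫
        (DCoh.Rpush f).mapIso (asIso ((TensorAssocLib.cnt ((pullC f).obj P)).app I)).symm)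
    (fun e h => KFlatLib.isQCohD_iso e h) ?_
  intro I J hI hJ pI pJ m
  have hb := beta_natural₁ f (ψ I) (ψ J) ((KFlatLib.resP Y).map ((pushC f).map m)) m
    ((KFlatLib.resψ Y).naturality _) P
  have hπ : (π I hI).inv ≫ DerivedCategory.Q.map ((KFlatLib.resP Y).map ((pushC f).map m)) =
      (DCoh.Rpush f).map (DerivedCategory.Q.map m) ≫ (π J hJ).inv := by
    rw [Iso.inv_comp_eq, ← Category.assoc, Iso.eq_comp_inv]
    simp only [π, asIso_hom, Category.assoc]
    rw [← pushQ_natural, ← DerivedCategory.Q.map_comp_assoc, ← DerivedCategory.Q.map_comp_assoc]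
    exact congrArg (fun z => DerivedCategory.Q.map z ≫ pushQ f J) ((KFlatLib.resψ Y).naturality _)
  have h₁ := (TensorAssocLib.cnt P).naturality ((KFlatLib.resP Y).map ((pushC f).map m))
  have h₂ := (TensorAssocLib.cnt ((pullC f).obj P)).naturality m
  simp only [Functor.comp_map, Iso.trans_hom, Functor.mapIso_hom, Iso.symm_hom, asIso_hom,
    asIso_inv, Category.assoc]
  rw [← Functor.map_comp_assoc, ← hπ, Functor.map_comp_assoc]
  refine congrArg (_ ≫ ·) ?_
  refine (Category.assoc _ _ _).symm.trans ((congrArg (· ≫ _) h₁).trans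
    ((Category.assoc _ _ _).trans (congrArg (_ ≫ ·) ?_)))
  refine (Category.assoc _ _ _).symm.trans ((congrArg (· ≫ _) hb).trans
    ((Category.assoc _ _ _).trans (congrArg (_ ≫ ·) ?_)))
  rw [← Functor.map_comp, ← Functor.map_comp]
  refine congrArg _ ?_
  rw [IsIso.comp_inv_eq, Category.assoc, IsIso.eq_inv_comp]
  exact h₂.symm

variable [DCoh.HasLpull f]

/-- The projection formula in `D_QCoh`, natural in the object upstairs. -/
theorem nonempty_projection_DQCoh_natIso (K : Cx Y) (hK : DCoh.IsQCohD (DCoh.toD Y K))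
    [DCoh.HasLTensorCx K] (M : Cx X)
    (hM : Nonempty (DCoh.toD X M ≅ (DCoh.Lpull f).obj (DCoh.toD Y K))) [DCoh.HasLTensorCx M] :
    Nonempty ((DCoh.IsQCohD (X := X)).ι ⋙ (DCoh.Rpush f ⋙ DCoh.LTensorCx K) ≅
      (DCoh.IsQCohD (X := X)).ι ⋙ (DCoh.LTensorCx M ⋙ DCoh.Rpush f)) := by
  let P := (KFlatLib.resP Y).obj K
  let q : P ⟶ K := (KFlatLib.resψ Y).app K
  haveI : QuasiIso q := KFlatLib.quasiIso_resψ K
  have hP : DCoh.IsKFlat P := (KFlatLib.good_resP K).1
  let eP : DCoh.toD Y P ≅ DCoh.toD Y K := asIso (DerivedCategory.Q.map q)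
  haveI := KFlatLib.hasLTensorCx P
  haveI := KFlatLib.hasLTensorCx ((pullC f).obj P)
  obtain ⟨c⟩ := nonempty_projection_natIso f P hP (KFlatLib.isQCohD_iso eP.symm hK)
  obtain ⟨a⟩ := nonempty_lTensor_congr q
  obtain ⟨m⟩ := hM
  obtain ⟨b⟩ := nonempty_lTensor_congr_iso
    (m ≪≫ (DCoh.Lpull f).mapIso eP.symm ≪≫ KFlatLib.lpullObjIso f P hP)
  exact ⟨Functor.isoWhiskerLeft _ (Functor.isoWhiskerLeft (DCoh.Rpush f) a.symm) ≪≫ c ≪≫
    Functor.isoWhiskerLeft _ (Functor.isoWhiskerRight b.symm (DCoh.Rpush f))⟩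

/-- `f^! RHom(G₁, G₂) ≅ RHom(Lf^*G₁, f^!G₂)`. -/
theorem nonempty_shriek_rSheafHom (h : DCoh.RpushPreservesQCoh f) [DCoh.HasShriek f h]
    (P : Cx Y) [DCoh.HasLTensorCx P] [DCoh.HasRSheafHom P] (hP : DCoh.IsQCohD (DCoh.toD Y P))
    (G : DCoh.DQCoh Y) (hq : DCoh.IsQCohD ((DCoh.RSheafHom P).obj G.obj))
    (P' : Cx X) [DCoh.HasLTensorCx P'] [DCoh.HasRSheafHom P']
    (hP' : Nonempty (DCoh.toD X P' ≅ (DCoh.Lpull f).obj (DCoh.toD Y P)))
    (hq' : DCoh.IsQCohD ((DCoh.RSheafHom P').obj ((DCoh.shriek f h).obj G).obj)) :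
    Nonempty (((DCoh.shriek f h).obj ⟨(DCoh.RSheafHom P).obj G.obj, hq⟩).obj ≅
      (DCoh.RSheafHom P').obj ((DCoh.shriek f h).obj G).obj) := by
  obtain ⟨α⟩ := nonempty_projection_DQCoh_natIso f P hP P' hP'
  obtain ⟨eP'⟩ := hP'
  have hP'q : DCoh.IsQCohD (DCoh.toD X P') :=
    KFlatLib.isQCohD_iso eP'.symm (KFlatLib.isQCohD_lpull f _ hP)
  let L : DCoh.DQCoh X ⥤ DCoh.DQCoh X := ObjectProperty.lift _
    (ObjectProperty.ι _ ⋙ DCoh.LTensorCx P')
    fun T => KFlatLib.isQCohD_lTensorCx P' hP'q T.obj T.property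
  let A : DCoh.DQCoh X := (DCoh.shriek f h).obj ⟨(DCoh.RSheafHom P).obj G.obj, hq⟩
  let B : DCoh.DQCoh X := ⟨(DCoh.RSheafHom P').obj ((DCoh.shriek f h).obj G).obj, hq'⟩
  let adj := DCoh.shriekAdj f h
  let eX : ∀ T S : DCoh.DQCoh X, (T ⟶ S) ≃ (T.obj ⟶ S.obj) := fun T S =>
    ⟨fun g => g.hom, fun g => ObjectProperty.homMk g, fun _ => rfl, fun _ => rfl⟩
  let eY : ∀ T S : DCoh.DQCoh Y, (T ⟶ S) ≃ (T.obj ⟶ S.obj) := fun T S =>
    ⟨fun g => g.hom, fun g => ObjectProperty.homMk g, fun _ => rfl, fun _ => rfl⟩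
  let Φ : ∀ T : DCoh.DQCoh X, (T ⟶ A) ≃ (T ⟶ B) := fun T =>
    (((((((adj.homEquiv T _).symm.trans (eY _ _)).trans
      ((DCoh.RSheafHomAdj P).homEquiv _ _).symm).trans
      ((α.app T).homFromEquiv)).trans
      (eY ((DCoh.RpushQ f h).obj (L.obj T)) G).symm).trans
      (adj.homEquiv (L.obj T) G)).trans (eX _ _)).trans
      (((DCoh.RSheafHomAdj P').homEquiv _ _).trans (eX T B).symm)
  have nat : ∀ {T T' : DCoh.DQCoh X} (u : T' ⟶ T) (g : T ⟶ A), Φ T' (u ≫ g) = u ≫ Φ T g := by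
    intro T T' u g
    let x := (((DCoh.RSheafHomAdj P).homEquiv _ _).symm ((adj.homEquiv T _).symm g).hom)
    let y : (DCoh.Rpush f).obj ((DCoh.LTensorCx P').obj T.obj) ⟶ G.obj := (α.app T).inv ≫ x
    have h₁ : ((adj.homEquiv T' _).symm (u ≫ g)).hom =
        (DCoh.Rpush f).map u.hom ≫ ((adj.homEquiv T _).symm g).hom := by
      rw [Adjunction.homEquiv_naturality_left_symm]
      rfl
    have h₂ : (α.app T').inv ≫ ((DCoh.RSheafHomAdj P).homEquiv _ _).symm
        ((adj.homEquiv T' _).symm (u ≫ g)).hom =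
        (DCoh.Rpush f).map ((DCoh.LTensorCx P').map u.hom) ≫ y := by
      rw [h₁, Adjunction.homEquiv_naturality_left_symm]
      exact (Category.assoc _ _ _).symm.trans
        ((congrArg (· ≫ x) (α.inv.naturality u).symm).trans (Category.assoc _ _ _))
    apply ObjectProperty.hom_ext
    have h₃ : ((adj.homEquiv (L.obj T') G) (ObjectProperty.homMk ((α.inv.app T') ≫
        ((DCoh.RSheafHomAdj P).homEquiv _ _).symm ((adj.homEquiv T' _).symm (u ≫ g)).hom))).hom =
        (DCoh.LTensorCx P').map u.hom ≫ ((adj.homEquiv (L.obj T) G) (ObjectProperty.homMk y)).hom :=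
      Eq.trans (congrArg (fun z => ((adj.homEquiv (L.obj T') G) z).hom) (ObjectProperty.hom_ext _ h₂))
        (congrArg (fun z => z.hom) (adj.homEquiv_naturality_left (L.map u)
          (ObjectProperty.homMk y : (DCoh.RpushQ f h).obj (L.obj T) ⟶ G)))
    exact (congrArg ((DCoh.RSheafHomAdj P').homEquiv T'.obj _) h₃).trans
      ((DCoh.RSheafHomAdj P').homEquiv_naturality_left u.hom _)
  let η : yoneda.obj A ≅ yoneda.obj B :=
    NatIso.ofComponents (fun T => (Φ T.unop).toIso) fun u => by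
      ext g
      exact nat u.unop g
  exact ⟨(DCoh.IsQCohD (X := X)).ι.mapIso (Yoneda.fullyFaithful.preimageIso η)⟩

end Groth.Agent.ShriekHomLib
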